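import Cfsg.Agent.Lib.H59.E7Sixty.Search
import Cfsg.Agent.Lib.Chev.All

/-! The tables agree with the datum of type E7. -/

set_option autoImplicit false

namespace Cfsg.Agent.Lib.H59.E7Sixty

open Cfsg.Lie Cfsg.Agent.Lib.Chev

/-- The image table of a fundamental reflection. -/
def rfl7 (i : ℕ) : List ℕ := rT.getD i []

/-- Invariance of the form under a fundamental reflection. -/
def chkInv (i : ℕ) : Bool :=
  (List.range 126).all fun r => force (bT.getD r 0) fun br => force (bT.getD ((rfl7 i).getD r 0) 0) fun br' =>
    (rfl7 i).zipIdx.all fun x => Nat.beq (bget br' x.1) (bget br x.2)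

set_option maxHeartbeats 4000000 in
theorem inv_ok : (List.range 7).all chkInv = true := by decide +kernel

set_option maxHeartbeats 4000000 in
theorem refl_ok : ((List.range 7).all fun i => Nat.beq (rfl7 i).length 126 && (List.range 126).all fun r =>
    Nat.beq (refl E7.cert i r) ((rfl7 i).getD r 0)) = true := by decide +kernel

theorem simple_ok : ((List.range 7).all fun k => Nat.beq (chevE7.simple k) (srt k)) = true := by decide +kernel

set_option maxHeartbeats 4000000 in
theorem coef_ok : ((List.range 7).all fun j => (List.range 126).all fun r =>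
    decide (((cfd r j : ℕ) : ℤ) % 13 = coef chevE7 E7.cert j r % 13)) = true := by decide +kernel

/-- The coordinate of the vector with a given number. -/
def vcoord (n j : ℕ) : ℕ := if 1 ≤ j ∧ j ≤ 4 then n / 5 ^ (j - 1) % 5 else 0

/-- The target of a vector under one of the four reflections. -/
def stepN (n i : ℕ) : ℕ := stT.getD n 0 / 625 ^ (i - 1) % 625

/-- The orbit number. -/
def orbN (n : ℕ) : ℕ := orbT.getD n 0

/-- Following a path. -/
def runP (path : List ℕ) (n : ℕ) : ℕ := path.foldl stepN n

set_option maxHeartbeats 4000000 in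
theorem step_ok : ((List.range 625).all fun n => [1, 2, 3, 4].all fun i => force (stepN n i) fun m =>
    Nat.beq (orbN m) (orbN n) && (List.range 7).all fun j =>
      decide ((((vcoord n j : ℕ) : ℤ) - bif Nat.beq j i then
        cm E7.cert 1 i * (vcoord n 1 : ℕ) + cm E7.cert 2 i * (vcoord n 2 : ℕ) + cm E7.cert 3 i * (vcoord n 3 : ℕ) +
          cm E7.cert 4 i * (vcoord n 4 : ℕ) else 0) % 5 = ((vcoord m j : ℕ) : ℤ) % 5)) = true := by decide +kernel

set_option maxHeartbeats 4000000 in
theorem dbl_ok : ((List.range 625).all fun n => force (dblT.getD n 0) fun m => Nat.blt m 625 &&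
    ((List.range 7).all fun j => Nat.beq (2 * vcoord n j % 5) (vcoord m j)) &&
      (Nat.beq n 0 || !Nat.beq (orbN m) (orbN n) || qualT.contains (orbN n))) = true := by decide +kernel

set_option maxHeartbeats 4000000 in
theorem path_ok : ((List.range 625).all fun n => !qualT.contains (orbN n) ||
    force (orbN n) fun o => ((pathT.getD n []).all fun i => Nat.ble 1 i && Nat.ble i 4) &&
      [0, 1, 2].any fun c => Nat.beq (qualT.getD c 0) o && Nat.beq (runP (pathT.getD n []) n) (repT.getD c 0)) =
    true := by decide +kernel

set_option maxHeartbeats 4000000 in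
theorem va_ok : ([0, 1, 2].all fun c => (List.range 126).all fun r => force ((vaT.getD c []).getD r 0) fun v =>
    decide (((v : ℕ) : ℤ) % 5 = ((List.range 7).map fun j =>
      chevE7.cartan j r * ((vcoord (repT.getD c 0) j : ℕ) : ℤ)).sum % 5)) = true := by decide +kernel

set_option maxHeartbeats 4000000 in
theorem cand_ok : ([0, 1, 2].all fun c => (List.range 7).all fun k => (List.range 126).all fun r =>
    !Nat.beq ((vaT.getD c []).getD r 0) (2 * (vaT.getD c []).getD (srt k) 0 % 5) || (cand c k).contains r) =
    true := by decide +kernel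

theorem va_lt_ok : ([0, 1, 2].all fun c => (List.range 126).all fun r => Nat.blt ((vaT.getD c []).getD r 0) 5) =
    true := by decide +kernel

theorem va_lt (c : ℕ) (hc : c ∈ [0, 1, 2]) (r : ℕ) (hr : r < 126) : (vaT.getD c []).getD r 0 < 5 := by
  have h := va_lt_ok
  simp only [List.all_eq_true, List.mem_range, Nat.blt_eq] at h
  exact h c hc r hr

theorem nroots_eq : chevE7.nroots = 126 ∧ chevE7.rank = 7 := by decide +kernel

end Cfsg.Agent.Lib.H59.E7Sixty
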