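import Cfsg.Agent.Lib.ElementOrders.SympTorus
import Cfsg.Agent.Lib.ElementOrders.Singer
import Cfsg.Agent.Lib.ElementOrders.UnitaryTorus
import Cfsg.Agent.Lib.ElementOrders.Basic
import Cfsg.Agent.Lib.Classical.UnitaryCentre
import Cfsg.Agent.Lib.PrimeGraphLinear.Symplectic
import Cfsg.Agent.Lib.SympPrimeGraph.Elements
import Cfsg.Agent.Lib.LinGroup.Order

/-! Elements of order sixty-five in five small groups over fields with eight and sixty-four elements. -/

set_option autoImplicit false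

namespace Cfsg.Agent.Lib.H59.E7Sixty

open Matrix

theorem quot_order {G : Type*} [Group G] [Finite G] (hZ : Nat.card ↥(Subgroup.center G) = 1) {x : G}
    (hx : 65 ∣ orderOf x) : ∃ y : G ⧸ Subgroup.center G, orderOf y = 65 := by
  obtain ⟨x', hx'⟩ := ElementOrders.exists_orderOf_eq_of_dvd hx
  refine ⟨QuotientGroup.mk' (Subgroup.center G) x', ?_⟩
  have hinj : Function.Injective (QuotientGroup.mk' (Subgroup.center G)) := by
    rw [← MonoidHom.ker_eq_bot_iff, QuotientGroup.ker_mk']
    exact Subgroup.card_eq_one.1 hZ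
  rw [orderOf_injective _ hinj, hx']

variable {F : Type*} [Field F] [Fintype F]

theorem psl2_65 (hF : Fintype.card F = 64) :
    ∃ y : Matrix.ProjectiveSpecialLinearGroup (Fin 2) F, orderOf y = 65 := by
  classical
  obtain ⟨x, hx⟩ := ElementOrders.exists_normOne_element F
  refine quot_order ?_ (x := x) ?_
  · rw [LinGroup.card_center_SL, Fintype.card_fin, Nat.card_units, Nat.card_eq_fintype_card, hF]; rfl
  · rw [hx, Nat.card_eq_fintype_card, hF]

theorem psl4_65 (hF : Fintype.card F = 8) :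
    ∃ y : Matrix.ProjectiveSpecialLinearGroup (Fin 4) F, orderOf y = 65 := by
  classical
  obtain ⟨g, hg⟩ := ElementOrders.exists_orderOf_eq_pow_card_sub_one (F := F) (n := 4) (d := 4) (by norm_num) le_rfl
  rw [hF] at hg
  have hdet : ((g ^ 7 : GL (Fin 4) F) : Matrix (Fin 4) (Fin 4) F).det = 1 := by
    rw [Units.val_pow_eq_pow_val, Matrix.det_pow]
    have hne : (g : Matrix (Fin 4) (Fin 4) F).det ≠ 0 := ((Matrix.isUnit_iff_isUnit_det _).1 g.isUnit).ne_zero
    have := FiniteField.pow_card_sub_one_eq_one _ hne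
    rwa [hF] at this
  let s : Matrix.SpecialLinearGroup (Fin 4) F := ⟨_, hdet⟩
  refine quot_order ?_ (x := s) ?_
  · rw [LinGroup.card_center_SL, Fintype.card_fin, Nat.card_units, Nat.card_eq_fintype_card, hF]; rfl
  · rw [← orderOf_injective Matrix.SpecialLinearGroup.toGL Matrix.SpecialLinearGroup.toGL_injective s,
      show Matrix.SpecialLinearGroup.toGL s = g ^ 7 from Units.ext rfl, orderOf_pow' g (by norm_num), hg]
    norm_num

theorem psp_65 (hF : Fintype.card F = 8) {n : ℕ} (hn : 2 ≤ n) : ∃ y : Cfsg.PSp n F, orderOf y = 65 := by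
  classical
  obtain ⟨-, g, hg⟩ := ElementOrders.exists_symp_torus (F := F) (d := 2) (by norm_num)
  obtain ⟨x, hx⟩ := SympPrimeGraph.exists_orderOf_mono hn g
  haveI : Finite (Matrix.symplecticGroup (Fin n) F) := Subtype.finite
  refine quot_order ?_ (x := x) ?_
  · rw [Classical.natCard_center_symplecticGroup n (by omega), hF]; rfl
  · rw [hx, hg, hF]; norm_num

theorem psu4_65 (hF : Fintype.card F = 64) : ∃ y : Cfsg.PSU 4 F 8, orderOf y = 65 := by
  classical
  have hF' : Fintype.card F = 8 ^ 2 := hF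
  haveI hp2 : Fact (Nat.Prime 2) := ⟨Nat.prime_two⟩
  haveI : CharP F 2 := by
    obtain ⟨p, hpc⟩ := CharP.exists F
    haveI := hpc
    haveI : Fact p.Prime := ⟨CharP.char_is_prime F p⟩
    obtain ⟨m, hp, hm⟩ := FiniteField.card F p
    have : p ∣ 2 ^ 6 := by
      have h := dvd_pow_self p m.ne_zero
      rw [← hm, hF] at h
      exact h
    exact ((Nat.prime_dvd_prime_iff_eq hp Nat.prime_two).1 (hp.dvd_of_dvd_pow this)) ▸ hpc
  let σ : F →+* F := iterateFrobenius F 2 3
  have hσ : ∀ x, σ x = x ^ 8 := fun x => iterateFrobenius_def 2 3 x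
  have hσne : σ ≠ RingHom.id F := by
    intro e
    obtain ⟨u, hu⟩ := isCyclic_iff_exists_orderOf_eq_natCard.1 (inferInstance : IsCyclic Fˣ)
    rw [Nat.card_units, Nat.card_eq_fintype_card, hF] at hu
    have h1 : (u : F) ^ 8 = u := by rw [← hσ, e]; rfl
    have h2 : u ^ 8 = u ^ 1 := Units.ext (by simpa using h1)
    have h3 := pow_eq_pow_iff_modEq.1 h2
    rw [hu] at h3
    exact absurd h3 (by decide)
  have hσ2 : ∀ a, σ (σ a) = a := fun a => by
    rw [hσ, hσ, ← pow_mul, show 8 * 8 = Fintype.card F from hF.symm, FiniteField.pow_card]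
  obtain ⟨G, g, hG, hg, hdet, hord⟩ := ElementOrders.exists_SU_torus hF' (by norm_num) hσ (D := 4) (by norm_num)
  obtain ⟨Φ, hΦ, hΦd, -, hΦp⟩ := ElementOrders.exists_transport hσne hσ2 (Equiv.refl (Fin 4)) hG
  have hm := hΦp g hg
  let s : Matrix.SpecialLinearGroup (Fin 4) F := ⟨Φ g, (hΦd g).trans hdet⟩
  have hsU : s ∈ Cfsg.SU 4 F 8 := by
    intro u v
    show Cfsg.hermForm 4 F 8 (Φ g *ᵥ u) (Φ g *ᵥ v) = Cfsg.hermForm 4 F 8 u v
    have key : ∀ u v : Fin 4 → F, Cfsg.hermForm 4 F 8 u v = u ⬝ᵥ fun i => σ (v i) := fun u v =>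
      Finset.sum_congr rfl fun i _ => congrArg (u i * ·) (hσ (v i)).symm
    have e : (fun i => σ ((Φ g *ᵥ v) i)) = (Φ g).map σ *ᵥ fun i => σ (v i) :=
      funext fun i => RingHom.map_mulVec σ (Φ g) v i
    unfold ElementOrders.HermPreserves at hm
    rw [Matrix.mul_one] at hm
    rw [key, key, e, Matrix.dotProduct_mulVec, Matrix.vecMul_mulVec, hm, Matrix.vecMul_one]
  refine quot_order ?_ (x := (⟨s, hsU⟩ : Cfsg.SU 4 F 8)) ?_
  · rw [Classical.natCard_center_SU hF' 4 (by norm_num)]; rfl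
  · rw [← Subgroup.orderOf_coe]
    have e1 : orderOf s = orderOf (Φ g) := by
      let c : Matrix.SpecialLinearGroup (Fin 4) F →* Matrix (Fin 4) (Fin 4) F :=
        { toFun := fun a => a.1, map_one' := rfl, map_mul' := fun _ _ => rfl }
      exact (orderOf_injective c Subtype.val_injective s).symm
    rw [e1, orderOf_injective Φ hΦ, hord]
    decide +kernel

end Cfsg.Agent.Lib.H59.E7Sixty
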