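import Cfsg.Agent.Lib.H59.E7Sixty.Weyl
import Cfsg.Agent.Lib.H59.F4Graph.Toral
import Cfsg.Agent.Lib.H59.F4Graph.Setting
import Cfsg.Agent.Lib.Chev.Levi
import Cfsg.Agent.Lib.Chev.UnipotentCount
import Cfsg.Agent.Lib.Chev.PoincareE7

/-! The group of type E7 over two elements has no element of order sixty-five. -/

set_option autoImplicit false

namespace Cfsg.Agent.Lib.H59.E7Sixty

open Cfsg.Lie Cfsg.Agent.Lib.Chev Cfsg.Agent.Lib.ChevField Cfsg.Agent.Lib.H59.Homocyclic
open scoped Matrix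

local notation "hE" => rootedE7

universe u

/-- The chain below the four nodes. -/
def tailOrbits : List OrbitCert := [E7.orbit3, E7.orbit4, E7.orbit5, E7.orbit6]

theorem tail_chain : chkChain chevE7 E7.cert [1, 2, 3, 4] tailOrbits = true := by decide +kernel

theorem orbitSum_two : (tailOrbits.map fun o => orbitSum chevE7 E7.cert o (2 : ℕ)).prod % 25 = 0 := by decide +kernel

theorem orbitSum_big : (tailOrbits.map fun o => orbitSum chevE7 E7.cert o (4096 : ℕ)).prod % 5 ≠ 0 := by decide +kernel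

theorem gcd_sd {Q : ℕ} (hQ : Q % 2 = 0) (hQ1 : 1 ≤ Q) :
    (∏ i : Fin chevE7.rank, (Q - 1).gcd (([1, 1, 1, 1, 1, 1, 2] : List ℕ).getD i.val 0)) = 1 := by
  have key : ∀ i < chevE7.rank,
      ([1, 1, 1, 1, 1, 1, 2] : List ℕ).getD i 0 = 1 ∨ ([1, 1, 1, 1, 1, 1, 2] : List ℕ).getD i 0 = 2 := by
    decide +kernel
  refine Finset.prod_eq_one fun i _ => ?_
  rcases key i.val i.2 with e | e <;> rw [e]
  · exact Nat.gcd_one_right _
  · rw [Nat.gcd_comm, Nat.gcd_rec]
    simp [show (Q - 1) % 2 = 1 by omega]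

section

variable (F : Type u) [Field F] [Fintype F]

theorem card_group_even (hF : Fintype.card F % 2 = 0) :
    Nat.card ↥(chevE7.group F) = Fintype.card F ^ 63 * ((Fintype.card F ^ 2 - 1) * ((Fintype.card F ^ 6 - 1) *
      ((Fintype.card F ^ 8 - 1) * ((Fintype.card F ^ 10 - 1) * ((Fintype.card F ^ 12 - 1) *
        ((Fintype.card F ^ 14 - 1) * (Fintype.card F ^ 18 - 1))))))) := by
  have h := (hE).card_group_mul (F := F) E7.smith_ok E7.chain_ok E7.poly_ok
  rw [gcd_sd hF Fintype.card_pos, one_mul] at h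
  simpa [E7.degs, show chevE7.nroots / 2 = 63 by decide +kernel] using h

theorem card_diagonal_even (hF : Fintype.card F % 2 = 0) :
    Nat.card ↥(chevE7.diagonalSubgroup F) = (Fintype.card F - 1) ^ 7 := by
  have h := (hE).card_diagonal (F := F) E7.smith_ok
  rw [gcd_sd hF Fintype.card_pos, one_mul] at h
  exact h.trans (congrArg ((Fintype.card F - 1) ^ ·) nroots_eq.2)

/-- The order of the parabolic subgroup of the four nodes. -/
theorem card_parabolicD4 :
    Nat.card ↥(chevE7.parabolicSubgroup F (nodesD4 : Set ℕ)) =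
      (Fintype.card F ^ 63 * Nat.card ↥(chevE7.diagonalSubgroup F)) *
        (tailOrbits.map fun o => orbitSum chevE7 E7.cert o (Fintype.card F)).prod := by
  classical
  set q := Fintype.card F
  have hidx := (hE).index_paraP (F := F) nodesD4_subset (Finset.empty_subset nodesD4)
  have hsum : (∑ w ∈ (weylFinset (hE).toChecked nodesD4).filter (fun w => ∀ k ∈ (∅ : Finset ℕ), Asc w k),
      q ^ (invs w).card) = (tailOrbits.map fun o => orbitSum chevE7 E7.cert o q).prod := by
    rw [← (hE).poinc_chain q _ _ tail_chain, poinc]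
    refine Finset.sum_congr ?_ fun _ _ => rfl
    ext w
    simp [mem_weylFinset, nodesD4]
  rw [hsum] at hidx
  rw [← hidx, ← show chevE7.nroots / 2 = 63 by decide +kernel, ← (hE).card_borel]
  have hB : chevE7.parabolicSubgroup F ((∅ : Finset ℕ) : Set ℕ) = chevE7.borelSubgroup F := by
    simp [ChevalleyDatum.parabolicSubgroup]
  rw [← (paraP chevE7 F nodesD4 ∅).card_mul_index]
  refine congrArg (· * _) ?_
  rw [← hB]
  exact (Nat.card_congr (Subgroup.subgroupOfEquivOfLe (parabolic_mono (Finset.empty_subset nodesD4))).toEquiv)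

end

variable {K : Type} [Field K]

/-- The inclusion of the rational group. -/
noncomputable def incl (f : ZMod 2 →+* K) : ↥(chevE7.group (ZMod 2)) →* GL chevE7.Idx K :=
  (glMap chevE7 f).comp (chevE7.group (ZMod 2)).subtype

theorem incl_injective (f : ZMod 2 →+* K) : Function.Injective (incl f) := fun x y e =>
  Subtype.ext (glMap_injective f e)

theorem parabolic_map (f : ZMod 2 →+* K) {x : GL chevE7.Idx (ZMod 2)}
    (hx : x ∈ chevE7.parabolicSubgroup (ZMod 2) (nodesD4 : Set ℕ)) :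
    glMap chevE7 f x ∈ chevE7.parabolicSubgroup K (nodesD4 : Set ℕ) := by
  rw [(hE).parabolic_eq nodesD4_subset] at hx ⊢
  have hd : chevE7.diagonalSubgroup (ZMod 2) = ⊥ := by
    rw [← Subgroup.card_eq_one]
    exact (card_diagonal_even (ZMod 2) (by simp [ZMod.card])).trans (by simp [ZMod.card])
  rw [hd, bot_sup_eq] at hx
  refine Subgroup.mem_sup_right ?_
  exact ChevField.glMap_rootGen f hx

/-- Torsion of the torus when the Cartan matrix is injective on the units. -/
theorem exists_vec' [Finite K] {m : ℕ} [NeZero m] (hker : (zpowMap Kˣ (cmMat chevE7 E7.cert)).ker = ⊥)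
    {z : Multiplicative (ZMod m) →* Kˣ} (hz : Function.Injective z) {t : GL chevE7.Idx K}
    (ht : t ∈ chevE7.diagonalSubgroup K) (hm : t ^ m = 1) :
    ∃ a ∈ CW chevE7 (ZMod m), tor z (Multiplicative.ofAdd a) = t := by
  classical
  haveI : Fintype Kˣ := Fintype.ofFinite _
  rw [(hE).diagonalSubgroup_eq] at ht
  obtain ⟨c, rfl⟩ := ht
  rw [← map_pow, (hE).toChecked.torusHom_eq_one_iff, ← MonoidHom.mem_ker, hker, Subgroup.mem_bot] at hm
  have hrange : ∀ i : Fin chevE7.rank, c i.val ∈ z.range := by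
    intro i
    have hle : z.range ≤ rootsOfUnity m K := by
      rintro _ ⟨a, rfl⟩
      rw [mem_rootsOfUnity, ← map_pow]
      refine (congrArg z ?_).trans (map_one z)
      apply Multiplicative.toAdd.injective
      rw [toAdd_pow, toAdd_one, nsmul_eq_mul, ZMod.natCast_self, zero_mul]
    have hcard : Nat.card ↥(rootsOfUnity m K) ≤ Nat.card ↥z.range := by
      rw [← Nat.card_congr (MonoidHom.ofInjective hz).toEquiv, Nat.card_congr Multiplicative.toAdd, Nat.card_zmod]
      exact card_rootsOfUnity K m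
    rw [Subgroup.eq_of_le_of_card_ge hle hcard, mem_rootsOfUnity]
    exact congrFun hm i
  choose b hb using hrange
  refine ⟨_, ⟨fun i => (b i).toAdd, rfl⟩, ?_⟩
  rw [tor_iota]
  exact torusHom_congr fun i hi => by rw [zcoord, dif_pos hi, ofAdd_toAdd, hb]

theorem glMap_sup_rootGen (σ : K →+* K) {S : Set ℕ} {g : GL chevE7.Idx K}
    (hg : g ∈ chevE7.diagonalSubgroup K ⊔ rootGen chevE7 K S) :
    glMap chevE7 σ g ∈ chevE7.diagonalSubgroup K ⊔ rootGen chevE7 K S := by
  have hle : (chevE7.diagonalSubgroup K ⊔ rootGen chevE7 K S).map (glMap chevE7 σ) ≤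
      chevE7.diagonalSubgroup K ⊔ rootGen chevE7 K S := by
    rw [Subgroup.map_sup]
    refine sup_le_sup ?_ ?_
    · rintro _ ⟨t, ht, rfl⟩
      exact ChevField.glMap_diagonal hE σ ht
    · rintro _ ⟨t, ht, rfl⟩
      exact ChevField.glMap_rootGen σ ht
  exact hle (Subgroup.mem_map_of_mem _ hg)

theorem not_commute {x y : ↥(chevE7.group (ZMod 2))} (hx : orderOf x = 13) (hy : orderOf y = 5)
    (hxy : Commute x y) : False := by
  classical
  haveI : Fact (Nat.Prime 5) := ⟨by norm_num⟩
  haveI : Fact (Nat.Prime 13) := ⟨by norm_num⟩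
  obtain ⟨K, hF, hFin, f, σ, hK, hσ, hσf, -⟩ := F4Graph.exists_ext (ZMod 2) (d := 12) (by norm_num)
  rw [ZMod.card] at hK hσ
  have hK' : Fintype.card K = 4096 := hK
  have hKev : Fintype.card K % 2 = 0 := by rw [hK']
  have h := (hE).toChecked
  -- conjugate the element of order five into the parabolic subgroup
  let P2 : Subgroup ↥(chevE7.group (ZMod 2)) :=
    (chevE7.parabolicSubgroup (ZMod 2) (nodesD4 : Set ℕ)).subgroupOf (chevE7.group (ZMod 2))
  have hP2 : (Nat.card ↥(chevE7.group (ZMod 2))).factorization 5 ≤ (Nat.card ↥P2).factorization 5 := by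
    have h25 : 5 ^ 2 ∣ Nat.card ↥P2 := by
      rw [Nat.card_congr (Subgroup.subgroupOfEquivOfLe ((hE).parabolic_le_group nodesD4)).toEquiv, card_parabolicD4]
      exact Dvd.dvd.mul_left (by
        have := orbitSum_two
        rw [ZMod.card]
        exact Nat.dvd_of_mod_eq_zero this) _
    have hg : (Nat.card ↥(chevE7.group (ZMod 2))).factorization 5 ≤ 2 := by
      by_contra hc
      have h125 : 5 ^ 3 ∣ Nat.card ↥(chevE7.group (ZMod 2)) :=
        ((Fact.out : Nat.Prime 5).pow_dvd_iff_le_factorization Nat.card_pos.ne').2 (by omega)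
      rw [card_group_even (ZMod 2) (by simp [ZMod.card]), ZMod.card] at h125
      norm_num at h125
    exact hg.trans (((Fact.out : Nat.Prime 5).pow_dvd_iff_le_factorization Nat.card_pos.ne').1 h25)
  have hyP : IsPGroup 5 ↥(Subgroup.zpowers y) :=
    IsPGroup.of_card (n := 1) (by rw [Nat.card_zpowers, hy, pow_one])
  obtain ⟨g0, -, hg0⟩ := F4Graph.exists_conj_le (T := P2) (H := ⊤) le_top le_top hyP hP2
  have hy1 := hg0 y (Subgroup.mem_zpowers y)
  set y1 := g0 * y * g0⁻¹ with hy1def
  set x1 := g0 * x * g0⁻¹ with hx1def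
  have hc1 : Commute x1 y1 := hxy.map (MulAut.conj g0).toMonoidHom
  have hx1 : orderOf x1 = 13 := (orderOf_injective (MulAut.conj g0).toMonoidHom (MulAut.conj g0).injective x).trans hx
  have hy1o : orderOf y1 = 5 := (orderOf_injective (MulAut.conj g0).toMonoidHom (MulAut.conj g0).injective y).trans hy
  -- into the torus over the extension
  set PK := chevE7.parabolicSubgroup K (nodesD4 : Set ℕ) with hPK
  have hTP : chevE7.diagonalSubgroup K ≤ PK := by
    rw [hPK, (hE).parabolic_eq nodesD4_subset]; exact le_sup_left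
  have hPG : PK ≤ chevE7.group K := (hE).parabolic_le_group nodesD4
  let yK : ↥PK := ⟨incl f y1, parabolic_map f hy1⟩
  have hyKo : orderOf yK = 5 := by
    rw [← Subgroup.orderOf_coe]; exact (orderOf_injective _ (incl_injective f) y1).trans hy1o
  have hfP : (Nat.card ↥PK).factorization 5 ≤
      (Nat.card ↥((chevE7.diagonalSubgroup K).subgroupOf PK)).factorization 5 := by
    rw [Nat.card_congr (Subgroup.subgroupOfEquivOfLe hTP).toEquiv, hPK, card_parabolicD4, hK']
    have hP0 : (tailOrbits.map fun o => orbitSum chevE7 E7.cert o (4096 : ℕ)).prod ≠ 0 := fun e =>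
      orbitSum_big (by rw [e])
    rw [Nat.factorization_mul (mul_ne_zero (by norm_num) Nat.card_pos.ne') hP0, Finsupp.add_apply,
      Nat.factorization_eq_zero_of_not_dvd (fun hd => orbitSum_big (Nat.mod_eq_zero_of_dvd hd)), add_zero,
      Nat.factorization_mul (by norm_num) Nat.card_pos.ne', Finsupp.add_apply, Nat.factorization_pow,
      Finsupp.smul_apply, Nat.factorization_eq_zero_of_not_dvd (n := 4096) (by norm_num), smul_zero, zero_add]
  obtain ⟨g1, -, hg1⟩ := F4Graph.exists_conj_le (T := (chevE7.diagonalSubgroup K).subgroupOf PK) (H := ⊤) le_top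
    le_top (IsPGroup.of_card (n := 1) (by rw [Nat.card_zpowers, hyKo, pow_one]) : IsPGroup 5 ↥(Subgroup.zpowers yK))
    hfP
  have hty : (g1 : GL chevE7.Idx K) * incl f y1 * (g1 : GL chevE7.Idx K)⁻¹ ∈ chevE7.diagonalSubgroup K :=
    hg1 yK (Subgroup.mem_zpowers yK)
  set ty := (g1 : GL chevE7.Idx K) * incl f y1 * (g1 : GL chevE7.Idx K)⁻¹ with htydef
  have hincl : ∀ z, incl f z ∈ chevE7.group K := fun z => glMap_group_le f (Subgroup.mem_map_of_mem _ z.2)
  -- the element of order thirteen centralises it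
  let G1 : ↥(chevE7.group K) := ⟨(g1 : GL chevE7.Idx K), hPG g1.2⟩
  let tyG : ↥(chevE7.group K) := ⟨ty, (hE).diagonal_le_group hty⟩
  let xG : ↥(chevE7.group K) := G1 * ⟨incl f x1, hincl x1⟩ * G1⁻¹
  let TG := (chevE7.diagonalSubgroup K).subgroupOf (chevE7.group K)
  have hTC : TG ≤ Subgroup.centralizer ({tyG} : Set ↥(chevE7.group K)) := fun t ht =>
    Subgroup.mem_centralizer_singleton_iff.2 (Subtype.ext ((hE).diagonal_commute ht hty))
  have hxty : Commute xG tyG := by
    refine Subtype.ext ?_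
    exact ((hc1.map (incl f)).map (MulAut.conj (g1 : GL chevE7.Idx K)).toMonoidHom).eq
  have hxGo : orderOf xG = 13 := by
    show orderOf ((MulAut.conj G1).toMonoidHom ⟨incl f x1, hincl x1⟩) = 13
    rw [orderOf_injective (MulAut.conj G1).toMonoidHom (MulAut.conj G1).injective, ← Subgroup.orderOf_coe]
    exact (orderOf_injective _ (incl_injective f) x1).trans hx1
  have hf13 : (Nat.card ↥(chevE7.group K)).factorization 13 ≤ (Nat.card ↥TG).factorization 13 := by
    rw [Nat.card_congr (Subgroup.subgroupOfEquivOfLe (hE).diagonal_le_group).toEquiv, card_diagonal_even K hKev, hK']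
    have h7 : 13 ^ 7 ∣ (4096 - 1) ^ 7 := pow_dvd_pow_of_dvd (by norm_num) 7
    have hg : (Nat.card ↥(chevE7.group K)).factorization 13 ≤ 7 := by
      by_contra hc
      have h8 : 13 ^ 8 ∣ Nat.card ↥(chevE7.group K) :=
        ((Fact.out : Nat.Prime 13).pow_dvd_iff_le_factorization Nat.card_pos.ne').2 (by omega)
      rw [card_group_even K hKev, hK'] at h8
      norm_num at h8
    exact hg.trans (((Fact.out : Nat.Prime 13).pow_dvd_iff_le_factorization (by norm_num)).1 h7)
  obtain ⟨g2, hg2C, hg2⟩ := F4Graph.exists_conj_le (T := TG) hTC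
    (Subgroup.zpowers_le.2 (Subgroup.mem_centralizer_singleton_iff.2 hxty.eq) :
      Subgroup.zpowers xG ≤ Subgroup.centralizer ({tyG} : Set ↥(chevE7.group K)))
    (IsPGroup.of_card (n := 1) (by rw [Nat.card_zpowers, hxGo, pow_one]) : IsPGroup 13 ↥(Subgroup.zpowers xG)) hf13
  have htx : ((g2 * xG * g2⁻¹ : ↥(chevE7.group K)) : GL chevE7.Idx K) ∈ chevE7.diagonalSubgroup K :=
    hg2 xG (Subgroup.mem_zpowers xG)
  set g : GL chevE7.Idx K := (g2 : GL chevE7.Idx K) * g1 with hgdef
  set tx : GL chevE7.Idx K := g * incl f x1 * g⁻¹ with htxdef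
  have htx' : tx ∈ chevE7.diagonalSubgroup K := by
    convert htx using 1
    simp [htxdef, hgdef, xG, G1, mul_assoc]
  have hgy : g * incl f y1 * g⁻¹ = ty := by
    have e : ((g2 : GL chevE7.Idx K)) * ty = ty * g2 :=
      congrArg Subtype.val (Subgroup.mem_centralizer_singleton_iff.1 hg2C)
    calc g * incl f y1 * g⁻¹ = (g2 : GL chevE7.Idx K) * ty * (g2 : GL chevE7.Idx K)⁻¹ := by
          rw [hgdef, htydef]; group
      _ = ty := by rw [e, mul_inv_cancel_right]
  -- torsion vectors
  have hKc : Nat.card K - 1 = 4095 := by rw [Nat.card_eq_fintype_card, hK']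
  obtain ⟨z5, hz5⟩ := exists_zmodHom (K := K) (m := 5) (by rw [hKc]; norm_num) (by norm_num)
  obtain ⟨z13, hz13⟩ := exists_zmodHom (K := K) (m := 13) (by rw [hKc]; norm_num) (by norm_num)
  have hker : (zpowMap Kˣ (cmMat chevE7 E7.cert)).ker = ⊥ := by
    rw [← Subgroup.card_eq_one, card_ker_of_smith E7.smith_ok, gcd_sd hKev Fintype.card_pos]
  obtain ⟨a, ha, eta⟩ := exists_vec' hker hz5 hty (by
    rw [← hgy, conj_pow, ← map_pow, ← hy1o, pow_orderOf_eq_one, map_one, mul_one, mul_inv_cancel])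
  obtain ⟨b, hb, etb⟩ := exists_vec' hker hz13 htx' (by
    rw [htxdef, conj_pow, ← map_pow, ← hx1, pow_orderOf_eq_one, map_one, mul_one, mul_inv_cancel])
  have twist : ∀ (g : GL chevE7.Idx K) (z : ↥(chevE7.group (ZMod 2))) {m : ℕ} {ζ : Multiplicative (ZMod m) →* Kˣ}
      {c : Fin chevE7.nroots → ZMod m}, g * incl f z * g⁻¹ = tor ζ (Multiplicative.ofAdd c) →
      glMap chevE7 σ g * g⁻¹ * tor ζ (Multiplicative.ofAdd c) =
        tor ζ (Multiplicative.ofAdd ((2 : ZMod m) • c)) * (glMap chevE7 σ g * g⁻¹) := by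
    intro g z m ζ c e
    have hfix : glMap chevE7 σ (incl f z) = incl f z := by
      show glMap chevE7 σ (glMap chevE7 f z) = _
      rw [glMap_glMap, (RingHom.ext hσf : σ.comp f = f)]
      rfl
    have e2 : glMap chevE7 σ (tor ζ (Multiplicative.ofAdd c)) = tor ζ (Multiplicative.ofAdd ((2 : ZMod m) • c)) :=
      glMap_tor ζ σ 2 hσ c
    rw [← e2, ← e, map_mul, map_mul, map_inv, hfix]
    group
  have hh1 : glMap chevE7 σ (g1 : GL chevE7.Idx K) * (g1 : GL chevE7.Idx K)⁻¹ ∈ PK := by
    refine mul_mem ?_ (inv_mem g1.2)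
    have e := (hE).parabolic_eq (F := K) nodesD4_subset
    have hmem : (g1 : GL chevE7.Idx K) ∈ chevE7.parabolicSubgroup K (nodesD4 : Set ℕ) := g1.2
    exact e.ge (glMap_sup_rootGen σ (e.le hmem))
  have hgG : g ∈ chevE7.group K := mul_mem g2.2 (hPG g1.2)
  have hh2 : glMap chevE7 σ g * g⁻¹ ∈ chevE7.group K :=
    mul_mem (glMap_group_le σ (Subgroup.mem_map_of_mem _ hgG)) (inv_mem hgG)
  obtain ⟨L1, u1, t1, v1, hL1, hu1, ht1, hv1, eq1, hd1⟩ := F4Graph.twist_data hE (hPG hh1)
  obtain ⟨L2, u2, t2, v2, hL2, hu2, ht2, hv2, eq2, hd2⟩ := F4Graph.twist_data hE hh2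
  have hw1 : wperm h L1 ∈ weyl h nodesD4 := by
    obtain ⟨w, hw, hm⟩ := (hE).exists_weyl_of_mem_parabolic hh1
    have hcell : glMap chevE7 σ (g1 : GL chevE7.Idx K) * (g1 : GL chevE7.Idx K)⁻¹ ∈ bcell h K (wperm h L1) := by
      rw [eq1]
      exact bcell_mul_mem (mul_mem (Subgroup.mem_sup_left hu1) (Subgroup.mem_sup_right ht1))
        ((hE).nProd_mem_bcell hL1) (Subgroup.mem_sup_left hv1)
    rwa [(hE).bcell_unique hcell hm]
  have h1 := (hd1 5 z5 hz5 a 2 ha (twist _ y1 eta.symm)).1
  have h2 := (hd2 5 z5 hz5 a 2 ha (twist _ y1 (hgy.trans eta.symm))).1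
  have h3 := (hd2 13 z13 hz13 b 2 hb (twist _ x1 etb.symm)).1
  have hinj : Function.Injective (iota chevE7 (ZMod 5)) :=
    iota_injective h hz5 (by rw [hker, Subgroup.card_bot]; exact Nat.coprime_one_right _)
  have ha0 : a ≠ 0 := by
    rintro rfl
    rw [ofAdd_zero, map_one, ← hgy] at eta
    have e1 : incl f y1 = 1 := by simpa using eta.symm
    rw [incl_injective f (e1.trans (map_one _).symm), orderOf_one] at hy1o
    norm_num at hy1o
  have hb0 := no_eigen hinj hw1 (h.mem_weyl_of_word hL2) ha ha0 h1 h2 hb h3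
  rw [hb0, ofAdd_zero, map_one, htxdef] at etb
  have e1 : incl f x1 = 1 := by simpa using etb.symm
  rw [incl_injective f (e1.trans (map_one _).symm), orderOf_one] at hx1
  norm_num at hx1

theorem split_65 {G : Type*} [Group G] {x : G} (h : orderOf x = 65) :
    orderOf (x ^ 5) = 13 ∧ orderOf (x ^ 13) = 5 ∧ Commute (x ^ 5) (x ^ 13) := by
  refine ⟨?_, ?_, (Commute.refl x).pow_pow _ _⟩
  · rw [orderOf_pow' x (by norm_num : (5 : ℕ) ≠ 0), h]; norm_num
  · rw [orderOf_pow' x (by norm_num : (13 : ℕ) ≠ 0), h]; norm_num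

/-- No element of order sixty-five. -/
theorem no_order_65 (x : ↥(chevE7.group (ZMod 2))) : orderOf x ≠ 65 := fun h =>
  not_commute (split_65 h).1 (split_65 h).2.1 (split_65 h).2.2

end Cfsg.Agent.Lib.H59.E7Sixty
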