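import Cfsg.Agent.Lib.H59.E7Sixty.Data

/-! The search through the possible images of the fundamental roots, with its soundness. -/

set_option autoImplicit false

namespace Cfsg.Agent.Lib.H59.E7Sixty

/-- Passing a number on after evaluating it. -/
def force {α : Type} (n : ℕ) (f : ℕ → α) : α :=
  match n with
  | 0 => f 0
  | m + 1 => f (m + 1)

theorem force_eq {α : Type} (n : ℕ) (f : ℕ → α) : force n f = f n := by cases n <;> rfl

/-- Passing a list on after evaluating its entries. -/
def forceList {α : Type} : List ℕ → (List ℕ → α) → α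
  | [], f => f []
  | a :: l, f => force a fun a' => forceList l fun l' => f (a' :: l')

theorem forceList_eq {α : Type} : ∀ (l : List ℕ) (f : List ℕ → α), forceList l f = f l
  | [], _ => rfl
  | a :: l, f => by rw [forceList, force_eq, forceList_eq l]

/-- Passing a list of lists on after evaluating its entries. -/
def forceRows {α : Type} : List (List ℕ) → (List (List ℕ) → α) → α
  | [], f => f []
  | a :: l, f => forceList a fun a' => forceRows l fun l' => f (a' :: l')

theorem forceRows_eq {α : Type} : ∀ (l : List (List ℕ)) (f : List (List ℕ) → α), forceRows l f = f l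
  | [], _ => rfl
  | a :: l, f => by rw [forceRows, forceList_eq, forceRows_eq l]

/-- The value of a row on a vector modulo thirteen. -/
def dot : List ℕ → (ℕ → ZMod 13) → ZMod 13
  | [], _ => 0
  | a :: l, b => (a : ZMod 13) * b 0 + dot l fun i => b (i + 1)

/-- A combination of two rows modulo thirteen. -/
def combT (a c : ℕ) : List ℕ → List ℕ → List ℕ
  | x :: p, y :: r => ((a * y + c * x) % 13) :: combT a c p r
  | [], r => r.map fun y => a * y % 13
  | x :: p, [] => (x :: p).map fun x => c * x % 13

theorem dot_map (a : ℕ) : ∀ (r : List ℕ) (b : ℕ → ZMod 13),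
    dot (r.map fun y => a * y % 13) b = (a : ZMod 13) * dot r b
  | [], _ => by simp [dot]
  | y :: r, b => by
    rw [List.map_cons, dot, dot, dot_map a r, ZMod.natCast_mod]
    push_cast
    ring

theorem dot_combT (a c : ℕ) : ∀ (p r : List ℕ) (b : ℕ → ZMod 13),
    dot (combT a c p r) b = (a : ZMod 13) * dot r b + (c : ZMod 13) * dot p b
  | x :: p, y :: r, b => by
    rw [combT, dot, dot, dot, dot_combT a c p r, ZMod.natCast_mod]
    push_cast
    ring
  | [], r, b => by rw [combT, dot_map]; simp [dot]
  | x :: p, [], b => by rw [combT, dot_map]; simp [dot]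

/-- Eliminating the first column with a pivot row. -/
def comb (p r : List ℕ) : List ℕ := combT (p.headD 0) (13 - r.headD 0 % 13) p.tail r.tail

/-- Whether elimination finds a pivot in each column. -/
def elim : ℕ → List (List ℕ) → Bool
  | 0, _ => true
  | k + 1, rows =>
    match rows.find? fun r => !Nat.beq (r.headD 0 % 13) 0 with
    | none => false
    | some p => forceRows (rows.map (comb p)) fun rows' => elim k rows'

theorem dot_split (r : List ℕ) (b : ℕ → ZMod 13) :
    dot r b = ((r.headD 0 : ℕ) : ZMod 13) * b 0 + dot r.tail fun i => b (i + 1) := by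
  cases r <;> simp [dot]

theorem dot_zero : ∀ (r : List ℕ) (b : ℕ → ZMod 13), (∀ i < r.length, b i = 0) → dot r b = 0
  | [], _, _ => rfl
  | a :: r, b, h => by
    rw [dot, h 0 (by simp), mul_zero, zero_add, dot_zero r _ fun i hi => h (i + 1) (by simpa using hi)]

theorem elim_sound : ∀ (k : ℕ) (rows : List (List ℕ)) (b : ℕ → ZMod 13), elim k rows = true →
    (∀ r ∈ rows, dot r b = 0) → (∀ i, k ≤ i → b i = 0) → ∀ i, b i = 0
  | 0, _, _, _, _, hb => fun i => hb i (Nat.zero_le i)
  | k + 1, rows, b, h, hr, hb => by
    unfold elim at h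
    split at h
    · exact absurd h (by simp)
    · rename_i p hp
      rw [forceRows_eq] at h
      have hpm := List.mem_of_find?_eq_some hp
      have hne := List.find?_some hp
      have htail : ∀ i, b (i + 1) = 0 := by
        refine elim_sound k _ (fun i => b (i + 1)) h ?_ fun i hi => hb (i + 1) (by omega)
        intro r' hr'
        obtain ⟨r, hrm, rfl⟩ := List.mem_map.1 hr'
        have e1 := hr r hrm
        have e2 := hr p hpm
        rw [dot_split] at e1 e2
        rw [comb, dot_combT, Nat.cast_sub (Nat.mod_lt _ (by norm_num)).le, ZMod.natCast_mod, ZMod.natCast_self,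
          zero_sub]
        linear_combination ((p.headD 0 : ℕ) : ZMod 13) * e1 - ((r.headD 0 : ℕ) : ZMod 13) * e2
      have e2 := hr p hpm
      rw [dot_split, dot_zero p.tail _ fun i _ => htail i, add_zero] at e2
      have hp0 : ((p.headD 0 : ℕ) : ZMod 13) ≠ 0 := by
        intro e
        have e' := congrArg ZMod.val e
        rw [ZMod.val_natCast, ZMod.val_zero] at e'
        rw [e'] at hne
        simp at hne
      haveI : Fact (Nat.Prime 13) := ⟨by norm_num⟩
      intro i
      cases i with
      | zero => exact (mul_eq_zero.1 e2).resolve_left hp0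
      | succ i => exact htail i

/-- The form read off a packed row. -/
def bget (br s : ℕ) : ℕ := br / 8 ^ s % 8

/-- The form. -/
def bf (r s : ℕ) : ℕ := bget (bT.getD r 0) s

/-- The coefficients modulo thirteen. -/
def cfd (r j : ℕ) : ℕ := cfT.getD r 0 / 16 ^ j % 16

/-- A fundamental root. -/
def srt (k : ℕ) : ℕ := sT.getD k 0

/-- The row of the eigenvector equation at a fundamental root with a given image. -/
def rowOf (k r : ℕ) : List ℕ :=
  (List.range 7).map fun j => (cfd r j + bif Nat.beq j k then 11 else 0) % 13

/-- The test at a complete assignment. -/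
def leafOK (ch : List (ℕ × ℕ)) : Bool := forceRows (ch.map fun x => rowOf x.1 x.2) fun rows => elim 7 rows

/-- Compatibility of an image with those already chosen. -/
def compat (k r : ℕ) (ch : List (ℕ × ℕ)) : Bool :=
  force (bT.getD r 0) fun br => ch.all fun x => Nat.beq (bget br x.2) (bf (srt k) (srt x.1))

/-- The possible images of a fundamental root. -/
def cand (c : ℕ) (k : ℕ) : List ℕ := (candT.getD c []).getD k []

/-- The search. -/
def search (c : ℕ) : List ℕ → List (ℕ × ℕ) → Bool
  | [], ch => leafOK ch
  | k :: ks, ch => (cand c k).all fun r => !compat k r ch || search c ks ((k, r) :: ch)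

theorem search_sound {c : ℕ} {p : ℕ → ℕ} {b : ℕ → ZMod 13}
    (hB : ∀ k < 7, ∀ l < 7, bf (p (srt k)) (p (srt l)) = bf (srt k) (srt l))
    (hc : ∀ k < 7, p (srt k) ∈ cand c k)
    (hb : ∀ k < 7, dot (rowOf k (p (srt k))) b = 0) (h7 : ∀ i, 7 ≤ i → b i = 0) :
    ∀ (ks : List ℕ) (ch : List (ℕ × ℕ)), (∀ k ∈ ks, k < 7) → (∀ x ∈ ch, x.1 < 7 ∧ x.2 = p (srt x.1)) →
      search c ks ch = true → ∀ i, b i = 0
  | [], ch, _, hch, h => by
    rw [search, leafOK, forceRows_eq] at h
    refine elim_sound 7 _ b h (fun r hr => ?_) h7
    obtain ⟨x, hx, rfl⟩ := List.mem_map.1 hr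
    rw [(hch x hx).2]
    exact hb _ (hch x hx).1
  | k :: ks, ch, hks, hch, h => by
    rw [search, List.all_eq_true] at h
    have hk := hks k List.mem_cons_self
    have h1 := h (p (srt k)) (hc k hk)
    have hcomp : compat k (p (srt k)) ch = true := by
      simp only [compat, force_eq, List.all_eq_true]
      intro x hx
      show Nat.beq (bf (p (srt k)) x.2) (bf (srt k) (srt x.1)) = true
      rw [(hch x hx).2, hB k hk _ (hch x hx).1]
      simp
    rw [hcomp, Bool.not_true, Bool.false_or] at h1
    exact search_sound hB hc hb h7 ks _ (fun l hl => hks l (List.mem_cons_of_mem _ hl)) (fun x hx => by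
      rcases List.mem_cons.1 hx with rfl | hx
      · exact ⟨hk, rfl⟩
      · exact hch x hx) h1

/-- The order in which the fundamental roots are treated. -/
def ordL : List ℕ := [3, 1, 2, 4, 0, 5, 6]

set_option maxHeartbeats 4000000 in
theorem search_ok0 : search 0 ordL [] = true := by decide +kernel

set_option maxHeartbeats 4000000 in
theorem search_ok1 : search 1 ordL [] = true := by decide +kernel

set_option maxHeartbeats 4000000 in
theorem search_ok2 : search 2 ordL [] = true := by decide +kernel

end Cfsg.Agent.Lib.H59.E7Sixty
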