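import Cfsg.Agent.Lib.H59.E7Sixty.Checks
import Cfsg.Agent.Lib.H59.Homocyclic.WeylMatrix

/-! No element of the Weyl group of type E7 doubles torsion vectors of orders five and thirteen. -/

set_option autoImplicit false

namespace Cfsg.Agent.Lib.H59.E7Sixty

open Cfsg.Lie Cfsg.Agent.Lib.Chev Cfsg.Agent.Lib.H59.Homocyclic
open scoped Matrix

theorem rootedE7 : Rooted chevE7 E7.cert := ⟨checked_E7, descent_E7⟩

local notation "hE" => rootedE7.toChecked

theorem refl_eq {i r : ℕ} (hi : i < 7) (hr : r < 126) : refl E7.cert i r = (rfl7 i).getD r 0 := by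
  have h := refl_ok
  simp only [List.all_eq_true, List.mem_range, Bool.and_eq_true] at h
  exact Nat.eq_of_beq_eq_true ((h i hi).2 r hr)

theorem bf_sigma {i r s : ℕ} (hi : i < 7) (hr : r < 126) (hs : s < 126) :
    bf (refl E7.cert i r) (refl E7.cert i s) = bf r s := by
  have h := inv_ok
  simp only [chkInv, List.all_eq_true, List.mem_range, force_eq] at h
  have hlen : (rfl7 i).length = 126 := by
    have h' := refl_ok
    simp only [List.all_eq_true, List.mem_range, Bool.and_eq_true] at h'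
    exact Nat.eq_of_beq_eq_true (h' i hi).1
  have h1 := Nat.eq_of_beq_eq_true (h i hi r hr ((rfl7 i).getD s 0, s) (by
    rw [List.getD_eq_getElem _ _ (hlen.symm ▸ hs), List.mem_iff_getElem]
    exact ⟨s, by simpa [hlen] using hs, by simp⟩))
  rw [refl_eq hi hr, refl_eq hi hs]
  exact h1

theorem bf_weyl {v : Equiv.Perm (Fin chevE7.nroots)} (hv : v ∈ weyl hE (Finset.range chevE7.rank))
    (r s : Fin chevE7.nroots) : bf (v r).val (v s).val = bf r.val s.val := by
  obtain ⟨L, hL, rfl⟩ := (hE).exists_word_of_weyl hv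
  clear hv
  induction L with
  | nil => simp [wperm_nil]
  | cons i L ih =>
    have hi := hL.cons.1
    rw [wperm_cons, Equiv.Perm.mul_apply, Equiv.Perm.mul_apply, (hE).sigma_val hi, (hE).sigma_val hi]
    exact (bf_sigma (nroots_eq.2 ▸ hi) (nroots_eq.1 ▸ Fin.isLt _) (nroots_eq.1 ▸ Fin.isLt _)).trans (ih hL.cons.2)

theorem srt_eq {k : ℕ} (hk : k < 7) : chevE7.simple k = srt k := by
  have h := simple_ok
  simp only [List.all_eq_true, List.mem_range] at h
  exact Nat.eq_of_beq_eq_true (h k hk)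

/-- A coweight is linear in the root coordinates. -/
theorem iota_linear {R : Type*} [CommRing R] (lam : Fin chevE7.rank → R) (r : Fin chevE7.nroots) :
    iota chevE7 R lam r = ∑ j : Fin chevE7.rank, (coef chevE7 E7.cert j.val r.val : R) *
      iota chevE7 R lam (srootF hE j.2) := by
  simp only [iota_apply, Finset.mul_sum]
  rw [Finset.sum_comm]
  refine Finset.sum_congr rfl fun i _ => ?_
  rw [(hE).cartan_eq i.2 r.2, zsum_eq, Finset.sum_range, Int.cast_sum, Finset.sum_mul]
  refine Finset.sum_congr rfl fun j _ => ?_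
  rw [show ((srootF hE j.2 : Fin chevE7.nroots) : ℕ) = chevE7.simple j.val from rfl, (hE).cm_eq j.2 i.2]
  push_cast
  ring

theorem cast_eq_of_emod {m : ℕ} {a b : ℤ} (h : a % (m : ℤ) = b % (m : ℤ)) : (a : ZMod m) = b :=
  (ZMod.intCast_eq_intCast_iff a b m).2 h

/-- The vector with a given number. -/
def lamOf (n : ℕ) : Fin chevE7.rank → ZMod 5 := fun j => (vcoord n j.val : ZMod 5)

theorem stepN_lt (n i : ℕ) : stepN n i < 625 := Nat.mod_lt _ (by norm_num)

theorem orb_step {n i : ℕ} (hn : n < 625) (hi : 1 ≤ i ∧ i ≤ 4) : orbN (stepN n i) = orbN n := by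
  have h := step_ok
  simp only [List.all_eq_true, List.mem_range, Bool.and_eq_true, force_eq] at h
  exact Nat.eq_of_beq_eq_true (h n hn i (by simp; omega)).1

theorem act_step {n i : ℕ} (hn : n < 625) (hi : 1 ≤ i ∧ i ≤ 4) :
    act (sigma hE i) (iota chevE7 (ZMod 5) (lamOf n)) = iota chevE7 (ZMod 5) (lamOf (stepN n i)) := by
  have hr := nroots_eq.2
  rw [← iota_reflMat hE (show i < chevE7.rank by omega)]
  congr 1
  funext j
  have h := step_ok
  simp only [List.all_eq_true, List.mem_range, Bool.and_eq_true, force_eq, decide_eq_true_eq] at h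
  have h1 := cast_eq_of_emod (m := 5) ((h n hn i (by simp; omega)).2 j.val (hr ▸ j.2))
  simp only [lamOf, Matrix.mulVec, dotProduct, Matrix.map_apply, reflMat, Matrix.of_apply, Int.coe_castRingHom]
  rw [Int.cast_natCast] at h1
  rw [← h1]
  have e0 : ∀ b : Fin chevE7.rank, (vcoord n b.val : ZMod 5) ≠ 0 → 1 ≤ b.val ∧ b.val ≤ 4 := by
    intro b hb
    by_contra hc
    exact hb (by simp [vcoord, if_neg hc])
  by_cases hji : j.val = i
  · simp only [hji, if_true, Nat.beq_eq, beq_self_eq_true, cond_true]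
    rw [Int.cast_sub, Int.cast_natCast]
    simp only [Int.cast_sub, sub_mul, Finset.sum_sub_distrib]
    congr 1
    · simp [apply_ite (Int.cast : ℤ → ZMod 5), ite_mul, hji]
    · rw [Fin.sum_univ_eq_sum_range (fun b => (cm E7.cert b i : ZMod 5) * (vcoord n b : ZMod 5)), hr,
        show Nat.beq i i = true by simp]
      simp [Finset.sum_range_succ, show vcoord n 0 = 0 from rfl, show vcoord n 5 = 0 from rfl,
        show vcoord n 6 = 0 from rfl]
  · have hb : Nat.beq j.val i = false := Bool.eq_false_iff.2 fun e => hji (Nat.eq_of_beq_eq_true e)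
    simp [hji, hb, apply_ite (Int.cast : ℤ → ZMod 5), ite_mul]

theorem exists_reduce : ∀ (path : List ℕ), (∀ i ∈ path, 1 ≤ i ∧ i ≤ 4) → ∀ n < 625,
    ∃ x ∈ weyl hE (Finset.range chevE7.rank),
      act x (iota chevE7 (ZMod 5) (lamOf n)) = iota chevE7 (ZMod 5) (lamOf (runP path n))
  | [], _, n, _ => ⟨1, one_mem _, act_one _⟩
  | i :: path, hp, n, hn => by
    have hi := hp i List.mem_cons_self
    obtain ⟨x, hx, e⟩ := exists_reduce path (fun j hj => hp j (List.mem_cons_of_mem _ hj)) _ (stepN_lt n i)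
    refine ⟨x * sigma hE i, mul_mem hx ((hE).sigma_mem_weyl (Finset.mem_range.2 ?_)), ?_⟩
    · have := nroots_eq.2; omega
    · rw [act_mul, act_step hn hi, e]
      rfl

/-- The four nodes of the subsystem of type D4. -/
def nodesD4 : Finset ℕ := {1, 2, 3, 4}

theorem mem_nodesD4 {i : ℕ} : i ∈ nodesD4 ↔ 1 ≤ i ∧ i ≤ 4 := by
  simp [nodesD4]; omega

theorem nodesD4_subset : nodesD4 ⊆ Finset.range chevE7.rank := fun i hi => by
  rw [Finset.mem_range, nroots_eq.2]; have := mem_nodesD4.1 hi; omega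

/-- The subsystem's Weyl group keeps the other coordinates. -/
theorem weylD4_coords {R : Type} [CommRing R] {w : Equiv.Perm (Fin chevE7.nroots)} (hw : w ∈ weyl hE nodesD4)
    (lam : Fin chevE7.rank → R) : ∃ mu : Fin chevE7.rank → R, iota chevE7 R mu = act w (iota chevE7 R lam) ∧
      ∀ j : Fin chevE7.rank, j.val ∉ nodesD4 → mu j = lam j := by
  obtain ⟨L, hL, rfl⟩ := (hE).exists_wperm hw
  clear hw
  induction L with
  | nil => exact ⟨lam, by rw [wperm_nil, act_one], fun _ _ => rfl⟩
  | cons i L ih =>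
    obtain ⟨mu, e, hmu⟩ := ih fun j hj => hL j (List.mem_cons_of_mem _ hj)
    have hiJ := hL i List.mem_cons_self
    have hi := Finset.mem_range.1 (nodesD4_subset hiJ)
    refine ⟨(reflMat chevE7 E7.cert i).map (Int.castRingHom R) *ᵥ mu, ?_, fun j hj => ?_⟩
    · rw [iota_reflMat hE hi, e, wperm_cons, act_mul]
    · have hne : j.val ≠ i := fun e => hj (e ▸ hiJ)
      simp [Matrix.mulVec, dotProduct, reflMat, hne, apply_ite (Int.cast : ℤ → R), ite_mul, hmu j hj]

theorem weylD4_orbit {w : Equiv.Perm (Fin chevE7.nroots)} (hw : w ∈ weyl hE nodesD4) {n : ℕ} (hn : n < 625) :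
    ∃ m < 625, orbN m = orbN n ∧
      act w (iota chevE7 (ZMod 5) (lamOf n)) = iota chevE7 (ZMod 5) (lamOf m) := by
  obtain ⟨L, hL, rfl⟩ := (hE).exists_wperm hw
  clear hw
  induction L with
  | nil => exact ⟨n, hn, rfl, by rw [wperm_nil, act_one]⟩
  | cons i L ih =>
    obtain ⟨m, hm, ho, e⟩ := ih fun j hj => hL j (List.mem_cons_of_mem _ hj)
    have hi := mem_nodesD4.1 (hL i List.mem_cons_self)
    exact ⟨stepN m i, stepN_lt _ _, by rw [orb_step hm hi, ho], by rw [wperm_cons, act_mul, e, act_step hm hi]⟩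

theorem lamOf_eq {n m : ℕ} (hn : n < 625) (hm : m < 625) (e : lamOf n = lamOf m) : n = m := by
  have hc : ∀ j, 1 ≤ j → j ≤ 4 → n / 5 ^ (j - 1) % 5 = m / 5 ^ (j - 1) % 5 := by
    intro j h1 h2
    have e1 := congrArg ZMod.val (congrFun e ⟨j, by have := nroots_eq.2; omega⟩)
    simp only [lamOf, vcoord, if_pos (And.intro h1 h2), ZMod.val_natCast] at e1
    simpa using e1
  have := hc 1 le_rfl (by norm_num)
  have := hc 2 (by norm_num) (by norm_num)
  have := hc 3 (by norm_num) (by norm_num)
  have := hc 4 (by norm_num) le_rfl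
  norm_num at *
  omega

theorem exists_lamOf (lam : Fin chevE7.rank → ZMod 5) (h : ∀ j : Fin chevE7.rank, j.val ∉ nodesD4 → lam j = 0) :
    ∃ n < 625, lamOf n = lam := by
  have hr := nroots_eq.2
  let v : ℕ → ℕ := fun j => if hj : j < chevE7.rank then (lam ⟨j, hj⟩).val else 0
  have hv : ∀ j, v j < 5 := by
    intro j; simp only [v]; split_ifs
    · exact ZMod.val_lt _
    · norm_num
  have h1 := hv 1; have h2 := hv 2; have h3 := hv 3; have h4 := hv 4
  refine ⟨v 1 + 5 * v 2 + 25 * v 3 + 125 * v 4, by omega, funext fun j => ?_⟩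
  by_cases hj : j.val ∈ nodesD4
  · have e : v j.val = (lam j).val := by simp [v, j.2]
    have hb := mem_nodesD4.1 hj
    have : vcoord (v 1 + 5 * v 2 + 25 * v 3 + 125 * v 4) j.val = v j.val := by
      rw [vcoord, if_pos hb]
      obtain ⟨hb1, hb2⟩ := hb
      generalize j.val = k at hb1 hb2 ⊢
      interval_cases k <;> norm_num <;> omega
    rw [lamOf, this, e, ZMod.natCast_zmod_val]
  · rw [h j hj, lamOf, vcoord, if_neg (fun hc => hj (mem_nodesD4.2 hc)), Nat.cast_zero]

/-- The key fact. -/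
theorem no_eigen (hinj : Function.Injective (iota chevE7 (ZMod 5)))
    {w₁ : Equiv.Perm (Fin chevE7.nroots)} (hw₁ : w₁ ∈ weyl hE nodesD4)
    {w : Equiv.Perm (Fin chevE7.nroots)} (hw : w ∈ weyl hE (Finset.range chevE7.rank))
    {a : Fin chevE7.nroots → ZMod 5} (ha : a ∈ CW chevE7 (ZMod 5)) (ha0 : a ≠ 0)
    (h1 : act w₁ a = (2 : ZMod 5) • a) (h2 : act w a = (2 : ZMod 5) • a)
    {b : Fin chevE7.nroots → ZMod 13} (hb : b ∈ CW chevE7 (ZMod 13)) (h3 : act w b = (2 : ZMod 13) • b) : b = 0 := by
  classical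
  have hR := nroots_eq.2
  have hN := nroots_eq.1
  obtain ⟨lam, rfl⟩ := ha
  obtain ⟨mu, e1, hmu⟩ := weylD4_coords hw₁ lam
  have hmu2 : mu = (2 : ZMod 5) • lam := hinj (by rw [e1, h1, map_smul])
  have hsupp : ∀ j : Fin chevE7.rank, j.val ∉ nodesD4 → lam j = 0 := by
    intro j hj
    have := hmu j hj
    rw [hmu2, Pi.smul_apply, smul_eq_mul] at this
    linear_combination this
  obtain ⟨n, hn, rfl⟩ := exists_lamOf lam hsupp
  have hd := dbl_ok
  simp only [List.all_eq_true, List.mem_range, Bool.and_eq_true, Bool.or_eq_true, force_eq, Bool.not_eq_true',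
    Nat.blt_eq] at hd
  obtain ⟨⟨hm, hdbl⟩, hq⟩ := hd n hn
  have hlam2 : lamOf (dblT.getD n 0) = (2 : ZMod 5) • lamOf n := by
    funext j
    rw [Pi.smul_apply, smul_eq_mul, lamOf, lamOf, ← Nat.eq_of_beq_eq_true (hdbl j.val (hR ▸ j.2)),
      ZMod.natCast_mod]
    push_cast
    ring
  obtain ⟨m, hm', ho, e⟩ := weylD4_orbit hw₁ hn
  have hmd : m = dblT.getD n 0 := lamOf_eq hm' hm (by
    rw [hlam2]
    exact hinj (by rw [← e, h1, map_smul]))
  have hq' : qualT.contains (orbN n) = true := by
    rcases hq with (hq | hq) | hq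
    · exfalso
      refine ha0 ?_
      rw [Nat.eq_of_beq_eq_true hq, show lamOf 0 = 0 from funext fun j => by simp [lamOf, vcoord], map_zero]
    · rw [← hmd, ho] at hq
      simp at hq
    · exact hq
  have hp := path_ok
  simp only [List.all_eq_true, List.mem_range, Bool.and_eq_true, Bool.or_eq_true, force_eq, List.any_eq_true,
    Bool.not_eq_true'] at hp
  obtain ⟨hpl, c, hc, -, hrun⟩ := (hp n hn).resolve_left (by rw [hq']; simp)
  obtain ⟨x, hx, ex⟩ := exists_reduce (pathT.getD n []) (fun i hi => by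
    have := hpl i hi
    simp only [Nat.ble_eq] at this
    exact this) n hn
  rw [Nat.eq_of_beq_eq_true hrun] at ex
  set a0 := iota chevE7 (ZMod 5) (lamOf (repT.getD c 0)) with ha0def
  set w' := x * w * x⁻¹ with hw'
  have hw'W : w' ∈ weyl hE (Finset.range chevE7.rank) := mul_mem (mul_mem hx hw) (inv_mem hx)
  have conj : ∀ {R : Type} [CommRing R] (f : Fin chevE7.nroots → R), act w' (act x f) = act x (act w f) := by
    intro R _ f
    rw [hw', act_mul, act_mul, ← act_mul x⁻¹ x, inv_mul_cancel, act_one]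
  have ha' : act w' a0 = (2 : ZMod 5) • a0 := by rw [← ex, conj, h2, map_smul]
  obtain ⟨nu, hnu⟩ := act_mem hE hx hb
  have hb' : act w' (act x b) = (2 : ZMod 13) • act x b := by rw [conj, h3, map_smul]
  suffices h0 : act x b = 0 by
    have := congrArg (act x⁻¹) h0
    rwa [← act_mul, inv_mul_cancel, act_one, map_zero] at this
  set b' := act x b with hb'def
  let fr : ℕ → Fin chevE7.nroots := fun r => if h : r < chevE7.nroots then ⟨r, h⟩ else ⟨0, by omega⟩
  have hfr : ∀ s : Fin chevE7.nroots, fr s.val = s := fun s => by simp [fr]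
  let p : ℕ → ℕ := fun r => (w'⁻¹ (fr r)).val
  let β : ℕ → ZMod 13 := fun i => if h : i < chevE7.rank then b' (srootF hE h) else 0
  have hs : ∀ k, (hk : k < 7) → fr (srt k) = srootF hE (show k < chevE7.rank by omega) := by
    intro k hk
    rw [← srt_eq hk]
    exact hfr (srootF hE (show k < chevE7.rank by omega))
  have hva : ∀ r, r < 126 → (((vaT.getD c []).getD r 0 : ℕ) : ZMod 5) = a0 (fr r) := by
    intro r hr
    have h := va_ok
    simp only [List.all_eq_true, List.mem_range, force_eq, decide_eq_true_eq] at h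
    have h5 := cast_eq_of_emod (m := 5) (h c hc r hr)
    rw [Int.cast_natCast] at h5
    have hfrr : (fr r).val = r := by simp [fr, hN ▸ hr]
    rw [h5, ha0def, iota_apply]
    simp only [lamOf]
    rw [Fin.sum_univ_eq_sum_range (fun j => (chevE7.cartan j (fr r).val : ZMod 5) *
      (vcoord (repT.getD c 0) j : ZMod 5)), hR, hfrr]
    simp [List.range_succ, Finset.sum_range_succ]
    ring
  have hcand : ∀ k < 7, p (srt k) ∈ cand c k := by
    intro k hk
    have h := cand_ok
    simp only [List.all_eq_true, List.mem_range, Bool.or_eq_true, Bool.not_eq_true'] at h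
    have hlt : p (srt k) < 126 := hN ▸ Fin.isLt _
    rcases h c hc k hk (p (srt k)) hlt with h5 | h5
    · exfalso
      have hk' : srt k < 126 := by rw [← srt_eq hk, ← hN]; exact (hE).simple_lt (by omega)
      have e2 := congrFun ha' (fr (srt k))
      rw [act_apply, Pi.smul_apply, smul_eq_mul, ← hva _ hk'] at e2
      rw [show w'⁻¹ (fr (srt k)) = fr (p (srt k)) from (hfr _).symm, ← hva _ hlt] at e2
      have e3 : (((vaT.getD c []).getD (p (srt k)) 0 : ℕ) : ZMod 5) =
          ((2 * (vaT.getD c []).getD (srt k) 0 % 5 : ℕ) : ZMod 5) := by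
        rw [e2, ZMod.natCast_mod]; push_cast; ring
      have e4 := congrArg ZMod.val e3
      simp only [ZMod.val_natCast, Nat.mod_mod] at e4
      have hv5 : (vaT.getD c []).getD (p (srt k)) 0 < 5 := va_lt c hc _ hlt
      rw [Nat.mod_eq_of_lt hv5] at e4
      rw [e4] at h5
      simp at h5
    · simpa using h5
  have hB : ∀ k < 7, ∀ l < 7, bf (p (srt k)) (p (srt l)) = bf (srt k) (srt l) := by
    intro k hk l hl
    show bf (w'⁻¹ (fr (srt k))).val (w'⁻¹ (fr (srt l))).val = _
    rw [bf_weyl (inv_mem hw'W), hs k hk, hs l hl, ← srt_eq hk, ← srt_eq hl]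
    rfl
  have hrow : ∀ k < 7, dot (rowOf k (p (srt k))) β = 0 := by
    intro k hk
    have hkr : k < chevE7.rank := by omega
    have e2 := congrFun hb' (fr (srt k))
    rw [act_apply, Pi.smul_apply, smul_eq_mul] at e2
    have hlin := (hnu ▸ iota_linear nu (w'⁻¹ (fr (srt k))) :
      b' (w'⁻¹ (fr (srt k))) = ∑ j : Fin chevE7.rank, (coef chevE7 E7.cert j.val (w'⁻¹ (fr (srt k))).val : ZMod 13) *
        b' (srootF hE j.2))
    have hcf : ∀ j < 7, ((cfd (p (srt k)) j : ℕ) : ZMod 13) =
        (coef chevE7 E7.cert j (w'⁻¹ (fr (srt k))).val : ZMod 13) := by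
      intro j hj
      have h := coef_ok
      simp only [List.all_eq_true, List.mem_range, decide_eq_true_eq] at h
      have := cast_eq_of_emod (m := 13) (h j hj (p (srt k)) (hN ▸ Fin.isLt _))
      rwa [Int.cast_natCast] at this
    have hbeta : b' (srootF hE hkr) = β k := by simp [β, hkr]
    have hsum : ∑ j : Fin chevE7.rank, (coef chevE7 E7.cert j.val (w'⁻¹ (fr (srt k))).val : ZMod 13) *
        b' (srootF hE j.2) = ∑ j ∈ Finset.range 7, ((cfd (p (srt k)) j : ℕ) : ZMod 13) * β j := by
      rw [← hR, Finset.sum_range]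
      refine Finset.sum_congr rfl fun j _ => ?_
      rw [hcf j.val (hR ▸ j.2)]
      simp [β, j.2]
    rw [hlin, hsum, hs k hk, hbeta] at e2
    simp only [Finset.sum_range_succ, Finset.sum_range_zero, zero_add] at e2
    have h13 : (13 : ZMod 13) = 0 := by decide
    interval_cases k <;>
      simp only [rowOf, List.range_succ, List.range_zero, List.nil_append, List.cons_append, List.map_cons, List.map_nil,
        dot, Nat.beq, cond_true, cond_false, Nat.add_zero, ZMod.natCast_mod, Nat.cast_add, Nat.cast_ofNat,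
        Nat.reduceAdd] <;>
      linear_combination (norm := (ring_nf; simp [h13])) e2
  have hz := search_sound hB hcand hrow (fun i hi => by simp [β, show ¬ i < chevE7.rank by omega]) ordL []
    (by decide) (by simp) (by
      simp only [List.mem_cons, List.not_mem_nil, or_false] at hc
      rcases hc with rfl | rfl | rfl
      · exact search_ok0
      · exact search_ok1
      · exact search_ok2)
  funext s
  rw [← hnu, iota_linear nu s, hnu]
  refine Finset.sum_eq_zero fun j _ => ?_
  have := hz j.val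
  simp only [β, dif_pos j.2] at this
  rw [this, mul_zero]

end Cfsg.Agent.Lib.H59.E7Sixty
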